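import Groth.Agent.GrpdLib.QuotSheaf
import Groth.Agent.GrpdFive.Main
import Groth.Agent.AlgStLib.FppfSite
import Groth.Agent.AlgSpPts.FppfTarget
import Groth.Agent.AlgSpPts.Sep

/-! Faithful flatness of a homomorphism via sheaves and the kernel. -/

set_option autoImplicit false
set_option backward.isDefEq.respectTransparency false
set_option backward.isDefEq.respectTransparency.types false

universe u

open CategoryTheory Limits MonoidalCategory CartesianMonoidalCategory AlgebraicGeometry MonObj GrpObj Opposite

namespace Groth.Agent.GrpdEpi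

variable {S : Scheme.{u}} {G H N : Over S}

theorem main [GrpObj G] [GrpObj H] (f : G ⟶ H) [IsMonHom f] [LocallyOfFinitePresentation G.hom]
    [LocallyOfFiniteType H.hom] (i : N ⟶ G) (hi : AlgGrp.IsKernel i f) :
    (Flat f.left ∧ Surjective f.left) ↔ (Epi (QuotSh.repMap Scheme.fppfPrecoverage f) ∧ Flat N.hom) := by
  have hN : IsPullback i.left N.hom f.left η[H].left := hi.map (Over.forget S)
  constructor
  · rintro ⟨hf, hs⟩
    refine ⟨?_, MorphismProperty.of_isPullback (P := @Flat) hN hf⟩
    haveI := hs
    haveI : LocallyOfFinitePresentation (f.left ≫ H.hom) := by rw [Over.w f]; infer_instance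
    haveI : LocallyOfFinitePresentation f.left := AlgSpPts.locallyOfFinitePresentation_of_comp f.left H.hom
    have hm : Presieve.ofArrows (fun _ : PUnit.{u+1} => G.left) (fun _ => f.left) ∈
        Scheme.precoverage (@Flat ⊓ @LocallyOfFinitePresentation) H.left :=
      (Scheme.ofArrows_mem_precoverage_iff _).2 ⟨fun x => ⟨⟨⟩, f.left.surjective x⟩, fun _ => ⟨hf, inferInstance⟩⟩
    have hq : Sieve.generate (Presieve.singleton f.left) ∈ Scheme.fppfPrecoverage.toGrothendieck H.left := by
      refine GrothendieckTopology.superset_covering _ ?_ (Precoverage.generate_mem_toGrothendieck hm)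
      rintro Z' _ ⟨Y, a, _, ⟨j⟩, rfl⟩
      exact ⟨G.left, a, f.left, Presieve.singleton_self _, rfl⟩
    rw [← Sheaf.isLocallySurjective_iff_epi]
    exact (Presheaf.isLocallySurjective_presheafToSheaf_map_iff _ _).2
      (GrpdLib.isLocallySurjective_of_cover _ f hq)
  · rintro ⟨he, hNf⟩
    haveI := he
    have hls : Presheaf.IsLocallySurjective (QuotSh.J Scheme.fppfPrecoverage S)
        (Functor.whiskerRight (yoneda.map f) uliftFunctor.{u + 1, u}) := by
      rw [← Presheaf.isLocallySurjective_presheafToSheaf_map_iff]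
      exact (Sheaf.isLocallySurjective_iff_epi _).2 he
    have hcov := hls.1 (U := H) ⟨𝟙 H⟩
    obtain ⟨J, V, v, hvf, hvp, hvs, hvR⟩ := AlgStLib.exists_fppf_of_mem_J (S := S) hcov
    have hlift : ∀ j, ∃ a : V j ⟶ G, a ≫ f = v j := fun j => by
      obtain ⟨⟨a⟩, ha⟩ := hvR j
      exact ⟨a, by simpa using congrArg ULift.down ha⟩
    haveI hNs : Surjective N.hom := ⟨fun x => by
      have he : η[G] ≫ f = 𝟙 _ ≫ η[H] := by rw [Category.id_comp, IsMonHom.one_hom f]
      have hw : (hi.lift η[G] (𝟙 _) he).left ≫ N.hom = 𝟙 S := Over.w (hi.lift η[G] (𝟙 _) he)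
      exact ⟨(hi.lift η[G] (𝟙 _) he).left x, by
        show ((hi.lift η[G] (𝟙 _) he).left ≫ N.hom) x = x
        rw [hw]; rfl⟩⟩
    have hbc : ∀ j, Flat (pullback.snd f.left (v j).left) ∧ Surjective (pullback.snd f.left (v j).left) := fun j => by
      obtain ⟨a, ha⟩ := hlift j
      obtain ⟨e, -, hes⟩ := GrpdFive.exists_shift i f hi a
      have hes' : e.hom.left ≫ (pullback.snd f (a ≫ f)).left = (snd N (V j)).left := congrArg CommaMorphism.left hes
      haveI : IsIso e.hom.left := ((Over.forget _).mapIso e).isIso_hom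
      have sq : IsPullback (pullback.fst f (a ≫ f)).left (pullback.snd f (a ≫ f)).left f.left (a ≫ f).left :=
        (IsPullback.of_hasPullback f (a ≫ f)).map (Over.forget S)
      have h1 : Flat (snd N (V j)).left ∧ Surjective (snd N (V j)).left :=
        ⟨MorphismProperty.pullback_snd (P := @Flat) N.hom (V j).hom hNf,
          MorphismProperty.pullback_snd (P := @Surjective) N.hom (V j).hom hNs⟩
      rw [← hes', MorphismProperty.cancel_left_of_respectsIso @Flat,
        MorphismProperty.cancel_left_of_respectsIso @Surjective, ← sq.isoPullback_hom_snd,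
        MorphismProperty.cancel_left_of_respectsIso @Flat,
        MorphismProperty.cancel_left_of_respectsIso @Surjective, ha] at h1
      exact h1
    refine ⟨?_, ⟨fun y => ?_⟩⟩
    · haveI := AlgSpPts.isLocalAtTarget_fppf @Flat
      have hm : Presieve.ofArrows (fun j => (V j).left) (fun j => (v j).left) ∈
          Scheme.fppfPrecoverage H.left :=
        (Scheme.ofArrows_mem_precoverage_iff _).2 ⟨hvs, fun j => ⟨hvf j, hvp j⟩⟩
      refine MorphismProperty.IsLocalAtTarget.of_forall_pullbackSnd (K := Scheme.fppfPrecoverage) hm ?_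
      rintro _ _ _ ⟨j⟩
      exact (hbc j).1
    · obtain ⟨j, z, rfl⟩ := hvs y
      haveI := (hbc j).2
      obtain ⟨w, rfl⟩ := (pullback.snd f.left (v j).left).surjective z
      exact ⟨pullback.fst f.left (v j).left w, by
        rw [← Scheme.Hom.comp_apply, pullback.condition, Scheme.Hom.comp_apply]⟩

end Groth.Agent.GrpdEpi
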